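import Groth.Agent.H3CAlg.QGorS2.Core
import Groth.Agent.H1CAlg.Reflexive

/-!
# The criterion at a point of a base change
-/

set_option autoImplicit false
set_option linter.style.haveILetI false

universe u

open TensorProduct IsLocalRing

namespace Groth.Agent.H3CAlg.QGorS2

/-- Double duals commute with flat base change. -/
noncomputable def dualDualBaseChange {R : Type u} [CommRing R] [IsNoetherianRing R] (S : Type u) [CommRing S]
    [Algebra R S] [Module.Flat R S] (M : Type u) [AddCommGroup M] [Module R M] [Module.Finite R M] :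
    S ⊗[R] Module.Dual R (Module.Dual R M) ≃ₗ[S] Module.Dual S (Module.Dual S (S ⊗[R] M)) :=
  haveI : Module.FinitePresentation R M := Module.finitePresentation_of_finite _ _
  haveI : Module.Finite R (Module.Dual R M) :=
    let ⟨_, _, f, _, hf, _⟩ := H4Depth.exists_dual_presentation (R := R) M
    Module.Finite.of_injective f hf
  haveI : Module.FinitePresentation R (Module.Dual R M) := Module.finitePresentation_of_finite _ _
  LinearEquiv.ofBijective _ (H1CAlg.bijective_liftBaseChange_dual S (Module.Dual R M)) ≪≫ₗ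
    (LinearEquiv.ofBijective _ (H1CAlg.bijective_liftBaseChange_dual S M)).symm.dualMap

variable {C A' C' : Type u} [CommRing C] [IsNoetherianRing C] [CommRing A'] [IsLocalRing A'] [IsNoetherianRing A']
  [CommRing C'] [IsNoetherianRing C'] [Algebra C C'] [Algebra A' C'] [Module.Flat A' C']
variable {F E0 E1 G : Type u}
  [AddCommGroup F] [Module C F] [Module.Finite C F]
  [AddCommGroup E0] [Module C E0] [Module.Finite C E0] [Module.Projective C E0]
  [AddCommGroup E1] [Module C E1] [Module.Finite C E1] [Module.Projective C E1]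
  [AddCommGroup G] [Module C G] [Module.Finite C G]

theorem at_point (q' : Ideal C') [q'.IsPrime] (hq' : q'.comap (algebraMap A' C') = maximalIdeal A') (J : Ideal C)
    (hS2 : LocCoh.HasSk 2 (EGA4.FibLocRing A' C' q') (EGA4.FibLocRing A' C' q'))
    (hdim : ∀ P : PrimeSpectrum (EGA4.FibLocRing A' C' q'),
      (J.map (algebraMap C C')).map (algebraMap C' (EGA4.FibLocRing A' C' q')) ≤ P.asIdeal →
      (2 : WithBot ℕ∞) ≤ ringKrullDim (Localization.AtPrime P.asIdeal))
    (f : F →ₗ[C] E0) (u : E0 →ₗ[C] E1) (v : E1 →ₗ[C] G)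
    (hf : Function.Injective f) (hfu : Function.Exact f u) (huv : Function.Exact u v) (hv : Function.Surjective v)
    (hGU : ∀ q : PrimeSpectrum C, ¬ J ≤ q.asIdeal →
      Module.Free (Localization.AtPrime q.asIdeal) (LocalizedModule q.asIdeal.primeCompl G)) :
    (FlatCA.FlatAt A' q' (Module.Dual C' (Module.Dual C' (C' ⊗[C] F))) ∧
      LocCoh.HasSk 2 (EGA4.FibLocRing A' C' q')
        (EGA4.FibLocMod A' C' q' (Module.Dual C' (Module.Dual C' (C' ⊗[C] F))))) ↔
    (haveI : SMulCommClass C A' C' := ⟨fun c a x => by simp only [Algebra.smul_def]; exact mul_left_comm _ _ _⟩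
     Module.Flat A' (LocalizedModule q'.primeCompl (C' ⊗[C] G))) := by
  haveI : SMulCommClass C A' C' := ⟨fun c a x => by simp only [Algebra.smul_def]; exact mul_left_comm _ _ _⟩
  let L := Localization.AtPrime q'
  haveI : IsLocalHom (algebraMap A' L) := ⟨fun b hb => by
    by_contra hnu
    refine (?_ : algebraMap A' L b ∈ maximalIdeal L) hb
    rw [IsScalarTower.algebraMap_apply A' C' L, IsLocalization.AtPrime.to_map_mem_maximal_iff L q']
    rw [← Ideal.mem_comap, hq']
    exact hnu⟩
  haveI : Module.Flat C' L := IsLocalization.flat _ q'.primeCompl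
  haveI : Module.Flat A' L := Module.Flat.trans A' C' L
  let eX : LocalizedModule q'.primeCompl (Module.Dual C' (Module.Dual C' (C' ⊗[C] F))) ≃ₗ[L]
      Module.Dual L (Module.Dual L (L ⊗[C] F)) :=
    H1CAlg.localizedEquivTensor q'.primeCompl (Module.Dual C' (Module.Dual C' (C' ⊗[C] F))) ≪≫ₗ
      dualDualBaseChange L (C' ⊗[C] F) ≪≫ₗ
      (AlgebraTensorModule.cancelBaseChange C C' L L F).dualMap.dualMap
  let eY : LocalizedModule q'.primeCompl (C' ⊗[C] G) ≃ₗ[L] L ⊗[C] G :=
    H1CAlg.localizedEquivTensor q'.primeCompl (C' ⊗[C] G) ≪≫ₗ AlgebraTensorModule.cancelBaseChange C C' L L G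
  haveI : IsScalarTower A' L (LocalizedModule q'.primeCompl (Module.Dual C' (Module.Dual C' (C' ⊗[C] F)))) :=
    IsScalarTower.of_algebraMap_smul fun a x => by
      rw [IsScalarTower.algebraMap_apply A' C' L, algebraMap_smul, algebraMap_smul]
  haveI : IsScalarTower A' L (LocalizedModule q'.primeCompl (C' ⊗[C] G)) :=
    IsScalarTower.of_algebraMap_smul fun a x => by
      rw [IsScalarTower.algebraMap_apply A' C' L, algebraMap_smul, algebraMap_smul]
  have hI : (q'.comap (algebraMap A' C')).map (algebraMap A' L) = EGA4.mB A' L := by rw [hq']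
  exact core (A := A') (L := L) J _ hI hS2 (fun P hP => hdim P (by
      rwa [Ideal.map_map, ← IsScalarTower.algebraMap_eq, IsScalarTower.algebraMap_eq C L, ← Ideal.map_map]))
    f u v hf hfu huv hv hGU
    (LocalizedModule q'.primeCompl (Module.Dual C' (Module.Dual C' (C' ⊗[C] F)))) eX
    (LocalizedModule q'.primeCompl (C' ⊗[C] G)) eY

end Groth.Agent.H3CAlg.QGorS2
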