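import Groth.Agent.H06EGA12.GeomSkField
import Groth.Prelude.Def_EGA4b
import Mathlib.RingTheory.Ideal.KrullsHeightTheorem
import Mathlib.RingTheory.RingHom.Flat

/-!
# The local fibre ring after a local base change
-/

set_option autoImplicit false
set_option linter.style.haveILetI false

universe u

open TensorProduct IsLocalRing Groth.Agent.H05EGA4

namespace Groth.Agent.H3CAlg.QGorS2

variable {R C : Type u} [CommRing R] [CommRing C] [IsNoetherianRing R] [IsNoetherianRing C] [IsLocalRing R] [Algebra R C]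

/-- The codimension condition at the localizations of the fibre. -/
theorem two_le_dim_fibre (n : Ideal C) [n.IsPrime] (hn : n.comap (algebraMap R C) = maximalIdeal R) (J : Ideal C)
    (hcodim : ∀ q : PrimeSpectrum C, J ≤ q.asIdeal → (2 : WithBot ℕ∞) ≤ ringKrullDim (EGA4.FibLocRing R C q.asIdeal))
    (P : PrimeSpectrum (EGA4.FibLocRing R C n)) (hP : J.map (algebraMap C (EGA4.FibLocRing R C n)) ≤ P.asIdeal) :
    (2 : WithBot ℕ∞) ≤ ringKrullDim (Localization.AtPrime P.asIdeal) := by
  let L0 := EGA4.FibLocRing R C n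
  let q := P.asIdeal.comap (algebraMap C L0)
  have hqn : q ≤ n := fun c hc => by
    by_contra hcn
    refine P.2.ne_top (Ideal.eq_top_of_isUnit_mem _ hc ?_)
    rw [IsScalarTower.algebraMap_apply C (Localization.AtPrime n) L0]
    exact (IsLocalization.map_units (Localization.AtPrime n) (⟨c, hcn⟩ : n.primeCompl)).map _
  have hmq : q.comap (algebraMap R C) = maximalIdeal R := by
    refine le_antisymm ((Ideal.comap_mono hqn).trans hn.le) fun a ha => ?_
    rw [Ideal.mem_comap, Ideal.mem_comap, IsScalarTower.algebraMap_apply C (Localization.AtPrime n) L0,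
      ← IsScalarTower.algebraMap_apply R C (Localization.AtPrime n), Ideal.Quotient.algebraMap_eq,
      Ideal.Quotient.eq_zero_iff_mem.2 (Ideal.mem_map_of_mem _ (hn.ge ha))]
    exact zero_mem _
  let T := EGA4.FibLocRing R C q
  let θ : Localization.AtPrime n →+* T := IsLocalization.lift (M := n.primeCompl) (g := algebraMap C T) fun t => by
    rw [IsScalarTower.algebraMap_apply C (Localization.AtPrime q) T]
    exact (IsLocalization.map_units (Localization.AtPrime q) (⟨t.1, fun h => t.2 (hqn h)⟩ : q.primeCompl)).map _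
  have hθ : ∀ c, θ (algebraMap C (Localization.AtPrime n) c) = algebraMap C T c := IsLocalization.lift_eq _
  let ψ : L0 →+* T := Ideal.Quotient.lift _ θ fun x hx => by
    refine (Ideal.map_le_iff_le_comap.2 fun a ha => ?_ : _ ≤ RingHom.ker θ) hx
    rw [Ideal.mem_comap, RingHom.mem_ker, IsScalarTower.algebraMap_apply R C (Localization.AtPrime n), hθ,
      ← IsScalarTower.algebraMap_apply R C T, IsScalarTower.algebraMap_apply R (Localization.AtPrime q) T,
      Ideal.Quotient.algebraMap_eq, Ideal.Quotient.eq_zero_iff_mem]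
    exact Ideal.mem_map_of_mem _ (hmq.ge (hn.le ha))
  have hψ : ∀ c, ψ (algebraMap C L0 c) = algebraMap C T c := hθ
  have hunit : ∀ x : P.asIdeal.primeCompl, IsUnit (ψ x) := by
    rintro ⟨x, hx⟩
    obtain ⟨z, rfl⟩ := Ideal.Quotient.mk_surjective x
    obtain ⟨⟨c, t⟩, hct⟩ := IsLocalization.surj n.primeCompl z
    have h1 : Ideal.Quotient.mk _ z * algebraMap C L0 t = algebraMap C L0 c := congrArg (Ideal.Quotient.mk _) hct
    have h2 := congrArg ψ h1
    rw [map_mul, hψ, hψ] at h2
    refine isUnit_of_mul_isUnit_left (y := algebraMap C T t) ?_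
    rw [h2, IsScalarTower.algebraMap_apply C (Localization.AtPrime q) T]
    refine (IsLocalization.map_units (Localization.AtPrime q) (⟨c, fun h => ?_⟩ : q.primeCompl)).map _
    refine hx ((P.2.mem_or_mem (?_ : _ * algebraMap C L0 t ∈ P.asIdeal)).resolve_right fun ht => t.2 (hqn ht))
    rw [h1]
    exact h
  refine (hcodim ⟨q, inferInstance⟩ (Ideal.map_le_iff_le_comap.1 hP)).trans
    (ringKrullDim_le_of_surjective (IsLocalization.lift hunit) fun y => ?_)
  obtain ⟨y, rfl⟩ := Ideal.Quotient.mk_surjective y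
  obtain ⟨c, t, rfl⟩ := IsLocalization.exists_mk'_eq q.primeCompl y
  refine ⟨IsLocalization.mk' _ (algebraMap C L0 c) (⟨algebraMap C L0 t, t.2⟩ : P.asIdeal.primeCompl), ?_⟩
  rw [IsLocalization.lift_mk'_spec, hψ, hψ]
  show Ideal.Quotient.mk _ (algebraMap C (Localization.AtPrime q) c) =
    Ideal.Quotient.mk _ (algebraMap C (Localization.AtPrime q) t) * _
  rw [← map_mul, IsLocalization.mk'_spec']

/-- A local fibre ring of a base change as a localization of a tensor product. -/
theorem exists_localization_equiv {R₁ C₁ A₁ C₂ k k' L0 L0' : Type u} [CommRing R₁] [CommRing C₁] [CommRing A₁] [CommRing C₂]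
    [Algebra R₁ C₁] [Algebra R₁ A₁] [Algebra R₁ C₂] [Algebra C₁ C₂] [Algebra A₁ C₂] [IsScalarTower R₁ C₁ C₂]
    [IsScalarTower R₁ A₁ C₂] (hpush : Algebra.IsPushout R₁ C₁ A₁ C₂)
    [Field k] [Field k'] [CommRing L0] [CommRing L0'] [IsLocalRing L0'] [Algebra k k'] [Algebra k L0] [Algebra C₁ L0]
    (S : Submonoid C₂) (m : Set A₁) (r : R₁ →+* k) (res : A₁ →+* k') (hres : Function.Surjective res)
    (hm : ∀ a ∈ m, res a = 0)
    (hk : ∀ a, algebraMap k k' (r a) = res (algebraMap R₁ A₁ a))
    (hL : ∀ a, algebraMap k L0 (r a) = algebraMap C₁ L0 (algebraMap R₁ C₁ a))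
    (φ₀ : L0 →+* L0') (ι : C₂ →+* L0') (κ : k' →+* L0')
    (hφ₀ : ∀ c, φ₀ (algebraMap C₁ L0 c) = ι (algebraMap C₁ C₂ c))
    (hκ : ∀ a, κ (res a) = ι (algebraMap A₁ C₂ a))
    (hr : Function.Surjective r)
    (hext0 : ∀ (X : Type u) [CommRing X] (h h' : L0 →+* X),
      (∀ c, h (algebraMap C₁ L0 c) = h' (algebraMap C₁ L0 c)) → h = h')
    (hS : ∀ t ∈ S, IsUnit (ι t))
    (hlift : ∀ (X : Type u) [CommRing X] (h : C₂ →+* X), (∀ t ∈ S, IsUnit (h t)) →
      (∀ a ∈ m, h (algebraMap A₁ C₂ a) = 0) → ∃ g : L0' →+* X, ∀ c, g (ι c) = h c)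
    (hext : ∀ (X : Type u) [CommRing X] (h h' : L0' →+* X), (∀ c, h (ι c) = h' (ι c)) → h = h') :
    ∃ (Q : Ideal (L0 ⊗[k] k')) (_ : Q.IsPrime) (e : Localization.AtPrime Q ≃+* L0'),
      ∀ l : L0, e (algebraMap L0 (Localization.AtPrime Q) l) = φ₀ l := by
  letI : Algebra k L0' := (φ₀.comp (algebraMap k L0)).toAlgebra
  have hcomp : ∀ y : k, κ (algebraMap k k' y) = φ₀ (algebraMap k L0 y) := fun y => by
    obtain ⟨a, rfl⟩ := hr y
    rw [hk, hκ, hL, hφ₀, ← IsScalarTower.algebraMap_apply, ← IsScalarTower.algebraMap_apply]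
  let ρ₀ : L0 →ₐ[k] L0' := { φ₀ with commutes' := fun _ => rfl }
  let ρ : k' →ₐ[k] L0' := { κ with commutes' := hcomp }
  let φ : L0 ⊗[k] k' →+* L0' := (Algebra.TensorProduct.lift ρ₀ ρ fun _ _ => Commute.all _ _).toRingHom
  have hφ : ∀ l a, φ (l ⊗ₜ[k] a) = φ₀ l * κ a := fun l a => Algebra.TensorProduct.lift_tmul _ _ _ l a
  let Q : Ideal (L0 ⊗[k] k') := (maximalIdeal L0').comap φ
  haveI : Q.IsPrime := inferInstanceAs ((maximalIdeal L0').comap φ).IsPrime
  let f : Localization.AtPrime Q →+* L0' := IsLocalization.lift (M := Q.primeCompl) (g := φ) fun x => by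
    by_contra hx
    exact x.2 ((mem_maximalIdeal _).2 hx)
  have hf : ∀ w, f (algebraMap (L0 ⊗[k] k') (Localization.AtPrime Q) w) = φ w := IsLocalization.lift_eq _
  let iL : L0 →+* L0 ⊗[k] k' := (Algebra.TensorProduct.includeLeft : L0 →ₐ[k] L0 ⊗[k] k').toRingHom
  let iK : k' →+* L0 ⊗[k] k' := (Algebra.TensorProduct.includeRight : k' →ₐ[k] L0 ⊗[k] k').toRingHom
  let j : L0 ⊗[k] k' →+* Localization.AtPrime Q := algebraMap (L0 ⊗[k] k') (Localization.AtPrime Q)
  have hγ : ∀ a : R₁, iL (algebraMap C₁ L0 (algebraMap R₁ C₁ a)) = iK (res (algebraMap R₁ A₁ a)) := fun a => by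
    rw [← hk, ← hL]
    show (Algebra.TensorProduct.includeLeft : L0 →ₐ[k] L0 ⊗[k] k') (algebraMap k L0 (r a)) =
      (Algebra.TensorProduct.includeRight : k' →ₐ[k] L0 ⊗[k] k') (algebraMap k k' (r a))
    rw [AlgHom.commutes, AlgHom.commutes]
  letI : Algebra R₁ (Localization.AtPrime Q) :=
    (j.comp (iL.comp ((algebraMap C₁ L0).comp (algebraMap R₁ C₁)))).toAlgebra
  let γ : C₂ →ₐ[R₁] Localization.AtPrime Q := Algebra.pushoutDesc C₂
    ({ j.comp (iL.comp (algebraMap C₁ L0)) with commutes' := fun _ => rfl } : C₁ →ₐ[R₁] Localization.AtPrime Q)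
    ({ j.comp (iK.comp res) with commutes' := fun a => congrArg j (hγ a).symm } : A₁ →ₐ[R₁] Localization.AtPrime Q)
    fun _ _ => Commute.all _ _
  have hγC : ∀ c, γ (algebraMap C₁ C₂ c) = j (iL (algebraMap C₁ L0 c)) := Algebra.pushoutDesc_left _ _ _ _
  have hγA : ∀ a, γ (algebraMap A₁ C₂ a) = j (iK (res a)) := Algebra.pushoutDesc_right _ _ _ _
  have hfiL : ∀ l, f (j (iL l)) = φ₀ l := fun l => (hf _).trans ((hφ l 1).trans (by rw [map_one, mul_one]))
  have hfiK : ∀ a, f (j (iK a)) = κ a := fun a => (hf _).trans ((hφ 1 a).trans (by rw [map_one, one_mul]))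
  have hfγ : ∀ x, f (γ x) = ι x := fun x => by
    induction x using hpush.out.inductionOn with
    | zero => simp only [map_zero]
    | tmul a =>
      show f (γ (algebraMap A₁ C₂ a)) = ι (algebraMap A₁ C₂ a)
      rw [hγA, hfiK, hκ]
    | smul a x hx =>
      rw [Algebra.smul_def, map_mul, map_mul, map_mul, hx, hγC, hfiL, hφ₀]
    | add x y hx hy => rw [map_add, map_add, map_add, hx, hy]
  have hflocal : ∀ w, IsUnit (f w) → IsUnit w := fun w hw => by
    obtain ⟨⟨x, s⟩, hxs⟩ := IsLocalization.surj Q.primeCompl w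
    have hu : IsUnit (f (j x)) := by
      show IsUnit (f (algebraMap (L0 ⊗[k] k') (Localization.AtPrime Q) x))
      rw [← hxs, map_mul]
      exact hw.mul ((IsLocalization.map_units (Localization.AtPrime Q) s).map f)
    refine isUnit_of_mul_isUnit_left (y := algebraMap (L0 ⊗[k] k') (Localization.AtPrime Q) s) ?_
    rw [hxs]
    refine IsLocalization.map_units (Localization.AtPrime Q) (⟨x, fun hx => ?_⟩ : Q.primeCompl)
    rw [show f (j x) = φ x from hf x] at hu
    exact (mem_maximalIdeal _).1 hx hu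
  obtain ⟨g, hg⟩ := hlift _ γ.toRingHom (fun t ht => hflocal _ ((hfγ t).symm ▸ hS t ht)) fun a ha => by
    show γ (algebraMap A₁ C₂ a) = 0
    rw [hγA, hm a ha, map_zero, map_zero]
  have hg' : ∀ c, g (ι c) = γ c := hg
  have hgf : g.comp f = RingHom.id _ := IsLocalization.ringHom_ext Q.primeCompl (RingHom.ext fun w => by
    show g (f (j w)) = j w
    induction w using TensorProduct.induction_on with
    | zero => simp only [map_zero]
    | add a b ha hb => rw [map_add, map_add, map_add, ha, hb]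
    | tmul l a =>
      rw [show l ⊗ₜ[k] a = iL l * iK a by
        show _ = l ⊗ₜ[k] (1 : k') * (1 : L0) ⊗ₜ[k] a
        rw [Algebra.TensorProduct.tmul_mul_tmul, mul_one, one_mul], map_mul, map_mul, map_mul, hfiL, hfiK]
      congr 1
      · refine RingHom.congr_fun (hext0 _ (g.comp φ₀) (j.comp iL) fun c => ?_) l
        show g (φ₀ (algebraMap C₁ L0 c)) = j (iL (algebraMap C₁ L0 c))
        rw [hφ₀, hg', hγC]
      · obtain ⟨a, rfl⟩ := hres a
        rw [hκ, hg', hγA])
  have hfg : f.comp g = RingHom.id L0' := hext _ _ _ fun c => by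
    show f (g (ι c)) = ι c
    rw [hg', hfγ]
  exact ⟨Q, inferInstance, RingEquiv.ofRingHom f g hfg hgf, fun l =>
    (congrArg f (IsScalarTower.algebraMap_apply L0 (L0 ⊗[k] k') (Localization.AtPrime Q) l)).trans (hfiL l)⟩

variable {A' C' : Type u} [CommRing A'] [IsLocalRing A'] [IsNoetherianRing A'] [CommRing C'] [IsNoetherianRing C']
  [Algebra R A'] [IsLocalHom (algebraMap R A')] [Algebra C C'] [Algebra A' C'] [Algebra R C']
  [IsScalarTower R C C'] [IsScalarTower R A' C']

/-- The hypotheses on the local fibre ring are inherited by a local base change. -/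
theorem fibre_baseChange [Algebra.FiniteType R C] (hpush : Algebra.IsPushout R C A' C')
    (n : Ideal C) [n.IsPrime] (hn : n.comap (algebraMap R C) = maximalIdeal R)
    (q' : Ideal C') [q'.IsPrime] (hq'n : q'.comap (algebraMap C C') = n)
    (hq' : q'.comap (algebraMap A' C') = maximalIdeal A') (J : Ideal C)
    (hS2 : LocCoh.HasSk 2 (EGA4.FibLocRing R C n) (EGA4.FibLocRing R C n))
    (hdim : ∀ P : PrimeSpectrum (EGA4.FibLocRing R C n), J.map (algebraMap C (EGA4.FibLocRing R C n)) ≤ P.asIdeal →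
      (2 : WithBot ℕ∞) ≤ ringKrullDim (Localization.AtPrime P.asIdeal)) :
    LocCoh.HasSk 2 (EGA4.FibLocRing A' C' q') (EGA4.FibLocRing A' C' q') ∧
    ∀ P : PrimeSpectrum (EGA4.FibLocRing A' C' q'),
      (J.map (algebraMap C C')).map (algebraMap C' (EGA4.FibLocRing A' C' q')) ≤ P.asIdeal →
      (2 : WithBot ℕ∞) ≤ ringKrullDim (Localization.AtPrime P.asIdeal) := by
  let k := ResidueField R
  let k' := ResidueField A'
  let L0 := EGA4.FibLocRing R C n
  let L0' := EGA4.FibLocRing A' C' q'
  -- the fibre as an algebra over the residue field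
  have hkill : ∀ a ∈ maximalIdeal R, algebraMap R L0 a = 0 := fun a ha => by
    rw [IsScalarTower.algebraMap_apply R (Localization.AtPrime n) L0, Ideal.Quotient.algebraMap_eq,
      Ideal.Quotient.eq_zero_iff_mem]
    exact Ideal.mem_map_of_mem _ (hn.ge ha)
  have hkill' : ∀ a ∈ maximalIdeal A', algebraMap A' L0' a = 0 := fun a ha => by
    rw [IsScalarTower.algebraMap_apply A' (Localization.AtPrime q') L0', Ideal.Quotient.algebraMap_eq,
      Ideal.Quotient.eq_zero_iff_mem]
    exact Ideal.mem_map_of_mem _ (hq'.ge ha)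
  letI : Algebra k L0 := (Ideal.Quotient.lift (maximalIdeal R) (algebraMap R L0) hkill : k →+* L0).toAlgebra
  haveI : IsScalarTower R k L0 := IsScalarTower.of_algebraMap_eq fun _ => rfl
  haveI : Algebra.EssFiniteType R (Localization.AtPrime n) := by
    haveI : Algebra.EssFiniteType C (Localization.AtPrime n) := Algebra.EssFiniteType.of_isLocalization _ n.primeCompl
    exact Algebra.EssFiniteType.comp R C _
  haveI : Algebra.EssFiniteType R L0 := Algebra.EssFiniteType.comp R (Localization.AtPrime n) _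
  haveI : Algebra.EssFiniteType k L0 := Algebra.EssFiniteType.of_comp R k L0
  haveI : IsNoetherianRing (L0 ⊗[k] k') := H02CA.isNoetherianRing_tensor_of_essFiniteType _ _ _
  have hW : LocCoh.HasSk 2 (L0 ⊗[k] k') (L0 ⊗[k] k') := by
    have hK : LocCoh.HasSk 2 k' k' := hasSk_self_iff_rs.mpr (rs_of_isRegularRing k')
    exact hasSk_self_iff_rs.mpr (((grsHom_of_grs (grs_bot_iff.mpr (hasSk_self_iff_rs.mp hK))).baseChange
      (A' := L0) (.inl inferInstance)).rs (hasSk_self_iff_rs.mp hS2))
  -- the map to the new fibre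
  let θ : Localization.AtPrime n →+* L0' :=
    IsLocalization.lift (M := n.primeCompl) (g := (algebraMap C' L0').comp (algebraMap C C')) fun t => by
      rw [RingHom.comp_apply, IsScalarTower.algebraMap_apply C' (Localization.AtPrime q') L0']
      exact (IsLocalization.map_units (Localization.AtPrime q')
        (⟨algebraMap C C' t, fun h => t.2 (hq'n.le h)⟩ : q'.primeCompl)).map _
  have hθ : ∀ c, θ (algebraMap C (Localization.AtPrime n) c) = algebraMap C' L0' (algebraMap C C' c) :=
    IsLocalization.lift_eq _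
  have hRL0' : ∀ a : R, algebraMap C' L0' (algebraMap C C' (algebraMap R C a)) = algebraMap A' L0' (algebraMap R A' a) :=
    fun a => by
      rw [← IsScalarTower.algebraMap_apply R C C', IsScalarTower.algebraMap_apply R A' C',
        ← IsScalarTower.algebraMap_apply A' C' L0']
  let φ₀ : L0 →+* L0' := Ideal.Quotient.lift _ θ fun x hx => by
    refine (Ideal.map_le_iff_le_comap.2 fun a ha => ?_ : _ ≤ RingHom.ker θ) hx
    rw [Ideal.mem_comap, RingHom.mem_ker, IsScalarTower.algebraMap_apply R C (Localization.AtPrime n), hθ, hRL0']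
    exact hkill' _ (map_nonunit (algebraMap R A') a (hn.le ha))
  have hφ₀ : ∀ c, φ₀ (algebraMap C L0 c) = algebraMap C' L0' (algebraMap C C' c) := hθ
  haveI : Nontrivial L0' := Ideal.Quotient.nontrivial_iff.mpr (ne_top_of_le_ne_top (maximalIdeal.isMaximal _).ne_top
    (Ideal.map_le_iff_le_comap.2 fun a ha => by
      rw [Ideal.mem_comap, IsScalarTower.algebraMap_apply A' C' (Localization.AtPrime q'),
        IsLocalization.AtPrime.to_map_mem_maximal_iff _ q']
      exact ha))
  haveI : IsLocalRing L0' := IsLocalRing.of_surjective' (Ideal.Quotient.mk _) Ideal.Quotient.mk_surjective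
  let κ : k' →+* L0' := Ideal.Quotient.lift (maximalIdeal A') (algebraMap A' L0') hkill'
  obtain ⟨Q, hQp, e, he⟩ := exists_localization_equiv (k := k) (k' := k') (L0 := L0) (L0' := L0') hpush q'.primeCompl
    (maximalIdeal A') (residue R) (residue A') residue_surjective (fun a ha => (residue_eq_zero_iff a).2 ha)
    (fun _ => rfl) (fun a => IsScalarTower.algebraMap_apply R C L0 a) φ₀ (algebraMap C' L0') κ hφ₀
    (fun a => IsScalarTower.algebraMap_apply A' C' L0' a) residue_surjective
    (fun X _ h h' hh => Ideal.Quotient.ringHom_ext (IsLocalization.ringHom_ext n.primeCompl (RingHom.ext hh)))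
    (fun t ht => (IsLocalization.map_units (Localization.AtPrime q') (⟨t, ht⟩ : q'.primeCompl)).map
      (Ideal.Quotient.mk _))
    (fun X _ h hu h0 => ⟨Ideal.Quotient.lift _ (IsLocalization.lift (M := q'.primeCompl) (g := h) fun t => hu t t.2)
      fun x hx => by
        refine (Ideal.map_le_iff_le_comap.2 fun a ha => ?_ : _ ≤ RingHom.ker _) hx
        rw [Ideal.mem_comap, RingHom.mem_ker, IsScalarTower.algebraMap_apply A' C' (Localization.AtPrime q'),
          IsLocalization.lift_eq]
        exact h0 a (hq'.le ha), fun c => IsLocalization.lift_eq _ c⟩)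
    (fun X _ h h' hh => Ideal.Quotient.ringHom_ext (IsLocalization.ringHom_ext q'.primeCompl (RingHom.ext hh)))
  haveI := hQp
  haveI : IsNoetherianRing (Localization.AtPrime Q) := IsLocalization.isNoetherianRing Q.primeCompl _ inferInstance
  refine ⟨H06EGA12.hasSk_of_equiv e (hasSk_self_iff_rs.mpr (RS.of_isLocalization Q.primeCompl _
    (hasSk_self_iff_rs.mp hW))), fun P hP => ?_⟩
  rw [IsLocalization.AtPrime.ringKrullDim_eq_height P.asIdeal (Localization.AtPrime P.asIdeal)]
  let P' := P.asIdeal.comap e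
  have hh : P'.height = P.asIdeal.height := RingEquiv.height_comap e P.asIdeal
  let r := P'.comap (algebraMap L0 (Localization.AtPrime Q))
  have hJr : J.map (algebraMap C L0) ≤ r := by
    rw [Ideal.map_le_iff_le_comap]
    intro c hc
    show e (algebraMap L0 (Localization.AtPrime Q) (algebraMap C L0 c)) ∈ P.asIdeal
    rw [he, hφ₀]
    exact hP (Ideal.mem_map_of_mem _ (Ideal.mem_map_of_mem _ hc))
  haveI : Module.Flat (L0 ⊗[k] k') (Localization.AtPrime Q) := IsLocalization.flat _ Q.primeCompl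
  haveI : Module.Flat L0 (Localization.AtPrime Q) := Module.Flat.trans L0 (L0 ⊗[k] k') _
  haveI : P'.LiesOver r := ⟨rfl⟩
  have hr := hdim ⟨r, inferInstance⟩ hJr
  rw [IsLocalization.AtPrime.ringKrullDim_eq_height r (Localization.AtPrime r)] at hr
  refine hr.trans (WithBot.coe_le_coe.mpr ?_)
  rw [← hh, Ideal.height_eq_height_add_of_liesOver_of_hasGoingDown r P']
  exact le_self_add

end Groth.Agent.H3CAlg.QGorS2
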