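import Groth.Agent.H3CAlg.QGorS2.AtPoint
import Groth.Agent.H3CAlg.QGorS2.FibBaseChange

/-!
# The criterion at the point itself
-/

set_option autoImplicit false
set_option linter.style.haveILetI false

universe u

open TensorProduct IsLocalRing

namespace Groth.Agent.H3CAlg.QGorS2

variable {R C : Type u} [CommRing R] [CommRing C] [IsNoetherianRing R] [IsNoetherianRing C] [IsLocalRing R]
  [Algebra R C] [Module.Flat R C]
  {F E0 E1 G : Type u}
  [AddCommGroup F] [Module C F] [Module R F] [IsScalarTower R C F] [Module.Finite C F] [Module.IsReflexive C F]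
  [AddCommGroup E0] [Module C E0] [Module.Finite C E0] [Module.Projective C E0]
  [AddCommGroup E1] [Module C E1] [Module.Finite C E1] [Module.Projective C E1]
  [AddCommGroup G] [Module C G] [Module R G] [IsScalarTower R C G] [Module.Finite C G]

theorem comap_eq_maximalIdeal {n : Ideal C} [n.IsPrime] (hn : (maximalIdeal R).map (algebraMap R C) ≤ n) :
    n.comap (algebraMap R C) = maximalIdeal R :=
  ((maximalIdeal.isMaximal R).eq_of_le (Ideal.IsPrime.comap _).ne_top (Ideal.map_le_iff_le_comap.1 hn)).symm

theorem at_base (n : Ideal C) [n.IsPrime] (hn : n.comap (algebraMap R C) = maximalIdeal R) (J : Ideal C)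
    (hS2 : LocCoh.HasSk 2 (EGA4.FibLocRing R C n) (EGA4.FibLocRing R C n))
    (hcodim : ∀ q : PrimeSpectrum C, J ≤ q.asIdeal → (2 : WithBot ℕ∞) ≤ ringKrullDim (EGA4.FibLocRing R C q.asIdeal))
    (f : F →ₗ[C] E0) (u : E0 →ₗ[C] E1) (v : E1 →ₗ[C] G)
    (hf : Function.Injective f) (hfu : Function.Exact f u) (huv : Function.Exact u v) (hv : Function.Surjective v)
    (hGU : ∀ q : PrimeSpectrum C, ¬ J ≤ q.asIdeal →
      Module.Free (Localization.AtPrime q.asIdeal) (LocalizedModule q.asIdeal.primeCompl G))
    (hG : Module.Flat R (LocalizedModule n.primeCompl G)) :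
    FlatCA.FlatAt R n F ∧ LocCoh.HasSk 2 (EGA4.FibLocRing R C n) (EGA4.FibLocMod R C n F) := by
  haveI : SMulCommClass C R C := ⟨fun c a x => by simp only [Algebra.smul_def]; exact mul_left_comm _ _ _⟩
  have hdim : ∀ P : PrimeSpectrum (EGA4.FibLocRing R C n),
      (J.map (algebraMap C C)).map (algebraMap C (EGA4.FibLocRing R C n)) ≤ P.asIdeal →
      (2 : WithBot ℕ∞) ≤ ringKrullDim (Localization.AtPrime P.asIdeal) := fun P hP =>
    two_le_dim_fibre n hn J hcodim P (by rwa [Algebra.algebraMap_self, Ideal.map_id] at hP)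
  let eG : LocalizedModule n.primeCompl (C ⊗[C] G) ≃ₗ[Localization.AtPrime n] LocalizedModule n.primeCompl G :=
    IsLocalizedModule.mapEquiv n.primeCompl (LocalizedModule.mkLinearMap n.primeCompl (C ⊗[C] G))
      (LocalizedModule.mkLinearMap n.primeCompl G) (Localization.AtPrime n) (TensorProduct.lid C G)
  haveI : IsScalarTower R (Localization.AtPrime n) (LocalizedModule n.primeCompl G) :=
    IsScalarTower.of_algebraMap_smul fun a x => by
      rw [IsScalarTower.algebraMap_apply R C (Localization.AtPrime n), algebraMap_smul, algebraMap_smul]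
  haveI : IsScalarTower R (Localization.AtPrime n) (LocalizedModule n.primeCompl (C ⊗[C] G)) :=
    IsScalarTower.of_algebraMap_smul fun a x => by
      rw [IsScalarTower.algebraMap_apply R C (Localization.AtPrime n), algebraMap_smul, algebraMap_smul]
  haveI := hG
  obtain ⟨hfl, hsk⟩ := (at_point (A' := R) (C' := C) n hn J hS2 hdim f u v hf hfu huv hv hGU).2
    (Module.Flat.of_linearEquiv (eG.restrictScalars R))
  let e : Module.Dual C (Module.Dual C (C ⊗[C] F)) ≃ₗ[C] F :=
    (TensorProduct.lid C F).dualMap.dualMap ≪≫ₗ (Module.evalEquiv C F).symm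
  let eL : LocalizedModule n.primeCompl (Module.Dual C (Module.Dual C (C ⊗[C] F))) ≃ₗ[Localization.AtPrime n]
      LocalizedModule n.primeCompl F :=
    IsLocalizedModule.mapEquiv n.primeCompl (LocalizedModule.mkLinearMap n.primeCompl _)
      (LocalizedModule.mkLinearMap n.primeCompl F) (Localization.AtPrime n) e
  haveI : IsScalarTower R (Localization.AtPrime n) (LocalizedModule n.primeCompl F) :=
    IsScalarTower.of_algebraMap_smul fun a x => by
      rw [IsScalarTower.algebraMap_apply R C (Localization.AtPrime n), algebraMap_smul, algebraMap_smul]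
  haveI : IsScalarTower R (Localization.AtPrime n) (LocalizedModule n.primeCompl (Module.Dual C (Module.Dual C (C ⊗[C] F)))) :=
    IsScalarTower.of_algebraMap_smul fun a x => by
      rw [IsScalarTower.algebraMap_apply R C (Localization.AtPrime n), algebraMap_smul, algebraMap_smul]
  haveI : Module.Flat R (LocalizedModule n.primeCompl (Module.Dual C (Module.Dual C (C ⊗[C] F)))) := hfl
  refine ⟨Module.Flat.of_linearEquiv (eL.symm.restrictScalars R), ?_⟩
  let I := (n.comap (algebraMap R C)).map (algebraMap R (Localization.AtPrime n))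
  let eF : EGA4.FibLocMod R C n F ≃ₗ[Localization.AtPrime n]
      EGA4.FibLocMod R C n (Module.Dual C (Module.Dual C (C ⊗[C] F))) :=
    Submodule.Quotient.equiv _ _ eL.symm (by
      rw [Submodule.map_smul'', Submodule.map_top, LinearEquiv.range])
  exact H4Depth.hasSk_of_bijective (f := (eF.extendScalarsOfSurjective
    (S := EGA4.FibLocRing R C n) Ideal.Quotient.mk_surjective).toLinearMap)
    (eF.extendScalarsOfSurjective (S := EGA4.FibLocRing R C n) Ideal.Quotient.mk_surjective).bijective hsk

end Groth.Agent.H3CAlg.QGorS2
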