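import Groth.Agent.H3CAlg.QGorS2.NoComponent
import Groth.Agent.S18708
import Groth.Agent.S18703
import Groth.Agent.S18702

/-!
# Relative `(S₂)` of a double dual is flatness of the cokernel
-/

set_option autoImplicit false
set_option linter.style.haveILetI false

universe u

open TensorProduct IsLocalRing

namespace Groth.Agent.H3CAlg.QGorS2

variable {A L C : Type u} [CommRing A] [CommRing L] [CommRing C] [IsNoetherianRing A] [IsNoetherianRing L]
  [IsNoetherianRing C] [IsLocalRing A] [IsLocalRing L] [Algebra A L] [IsLocalHom (algebraMap A L)] [Module.Flat A L]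
  [Algebra C L]

variable {F E0 E1 G : Type u}
  [AddCommGroup F] [Module C F] [Module.Finite C F]
  [AddCommGroup E0] [Module C E0] [Module.Finite C E0] [Module.Projective C E0]
  [AddCommGroup E1] [Module C E1] [Module.Finite C E1] [Module.Projective C E1]
  [AddCommGroup G] [Module C G] [Module.Finite C G]

/-- Depth two along `J` on the fibre. -/
theorem two_le_fibre (J : Ideal L) (hS2 : LocCoh.HasSk 2 (L ⧸ EGA4.mB A L) (L ⧸ EGA4.mB A L))
    (hdim : ∀ P : PrimeSpectrum (L ⧸ EGA4.mB A L), J.map (Ideal.Quotient.mk _) ≤ P.asIdeal →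
      (2 : WithBot ℕ∞) ≤ ringKrullDim (Localization.AtPrime P.asIdeal)) :
    2 ≤ LocCoh.idealDepth J (L ⧸ EGA4.mB A L) := by
  rw [← H8Props.FlatDepth.idealDepth_map_of_surjective (R := L) (S := L ⧸ EGA4.mB A L) (M := L ⧸ EGA4.mB A L)
    Ideal.Quotient.mk_surjective]
  exact_mod_cast S18699.result 2 (L ⧸ EGA4.mB A L) (L ⧸ EGA4.mB A L) _ hS2 fun P hP _ => by
    obtain ⟨e1⟩ := H4Depth.exists_localizedModule_self_equiv (R := L ⧸ EGA4.mB A L) P.asIdeal
    rw [Module.supportDim_eq_of_equiv e1, Module.supportDim_self_eq_ringKrullDim]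
    exact_mod_cast hdim P hP

theorem two_le_projective (J : Ideal L) (h : 2 ≤ LocCoh.idealDepth J L) (E : Type u) [AddCommGroup E] [Module L E]
    [Module.Finite L E] [Module.Projective L E] : 2 ≤ LocCoh.idealDepth J E :=
  (S18702.result L J E).2.1 h

/-- The double dual of the pulled back module is the kernel of the pulled back map. -/
theorem exists_dualDual_equiv_ker (J : Ideal C) (hdL : 2 ≤ LocCoh.idealDepth (J.map (algebraMap C L)) L)
    (f : F →ₗ[C] E0) (u : E0 →ₗ[C] E1) (v : E1 →ₗ[C] G)
    (hf : Function.Injective f) (hfu : Function.Exact f u) (huv : Function.Exact u v) (hv : Function.Surjective v)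
    (hGU : ∀ q : PrimeSpectrum C, ¬ J ≤ q.asIdeal →
      Module.Free (Localization.AtPrime q.asIdeal) (LocalizedModule q.asIdeal.primeCompl G)) :
    Nonempty (Module.Dual L (Module.Dual L (L ⊗[C] F)) ≃ₗ[L] LinearMap.ker (u.baseChange L)) := by
  let J' := J.map (algebraMap C L)
  let K := LinearMap.ker (u.baseChange L)
  have hK : Function.Exact K.subtype (u.baseChange L) := LinearMap.exact_subtype_ker_map _
  have huv' : Function.Exact (u.baseChange L) (v.baseChange L) := lTensor_exact L huv hv
  have hv' : Function.Surjective (v.baseChange L) := LinearMap.lTensor_surjective L hv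
  have hd : 2 ≤ LocCoh.idealDepth J' K := H4Depth.two_le_idealDepth_of_exact J' K.injective_subtype hK
    (two_le_projective J' hdL _) (le_trans one_le_two (two_le_projective J' hdL _))
  haveI : Module.IsReflexive L K := S18703.result L J' (le_trans one_le_two hdL) K (fun P hP => by
    haveI := H4Depth.free_localized_kernel (S := L) (K := K) K.subtype _ (v.baseChange L) K.injective_subtype hK huv' hv'
      P.asIdeal (H4Depth.free_localized_baseChange G P.asIdeal
        (hGU ⟨_, P.2.comap _⟩ fun h => hP (Ideal.map_le_iff_le_comap.2 h)))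
    haveI : Module.Finite (Localization.AtPrime P.asIdeal) (LocalizedModule P.asIdeal.primeCompl K) :=
      Module.Finite.of_isLocalizedModule P.asIdeal.primeCompl (LocalizedModule.mkLinearMap P.asIdeal.primeCompl K)
    infer_instance) hd
  have hb := H4Depth.bijective_dualMap (M := L ⊗[C] F) (N := K) J' hdL (toKer f u hfu) fun P hP =>
    exists_inverse_toKer f u v hf hfu huv hv P.asIdeal
      (hGU ⟨_, P.2.comap _⟩ fun h => hP (Ideal.map_le_iff_le_comap.2 h))
  exact ⟨(LinearEquiv.ofBijective _ hb).dualMap ≪≫ₗ (Module.evalEquiv L K).symm⟩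

/-- Flatness with `(S₂)` closed fibre of the double dual is flatness of the cokernel. -/
theorem core (J : Ideal C) (I : Ideal L) (hI : I = EGA4.mB A L)
    (hS2 : LocCoh.HasSk 2 (L ⧸ I) (L ⧸ I))
    (hdim : ∀ P : PrimeSpectrum (L ⧸ I), (J.map (algebraMap C L)).map (Ideal.Quotient.mk I) ≤ P.asIdeal →
      (2 : WithBot ℕ∞) ≤ ringKrullDim (Localization.AtPrime P.asIdeal))
    (f : F →ₗ[C] E0) (u : E0 →ₗ[C] E1) (v : E1 →ₗ[C] G)
    (hf : Function.Injective f) (hfu : Function.Exact f u) (huv : Function.Exact u v) (hv : Function.Surjective v)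
    (hGU : ∀ q : PrimeSpectrum C, ¬ J ≤ q.asIdeal →
      Module.Free (Localization.AtPrime q.asIdeal) (LocalizedModule q.asIdeal.primeCompl G))
    (X : Type u) [AddCommGroup X] [Module L X] [Module A X] [IsScalarTower A L X]
    (eX : X ≃ₗ[L] Module.Dual L (Module.Dual L (L ⊗[C] F)))
    (Y : Type u) [AddCommGroup Y] [Module L Y] [Module A Y] [IsScalarTower A L Y] (eY : Y ≃ₗ[L] L ⊗[C] G) :
    (Module.Flat A X ∧ LocCoh.HasSk 2 (L ⧸ I) (X ⧸ I • (⊤ : Submodule L X))) ↔ Module.Flat A Y := by
  subst hI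
  let J' := J.map (algebraMap C L)
  haveI : SMulCommClass C A L := ⟨fun c a x => by
    simp only [Algebra.smul_def]
    exact mul_left_comm _ _ _⟩
  haveI : Module.Flat A (L ⊗[C] E0) := Module.Flat.trans A L _
  haveI : Module.Flat A (L ⊗[C] E1) := Module.Flat.trans A L _
  have hfib := two_le_fibre J' hS2 hdim
  have hdL : 2 ≤ LocCoh.idealDepth J' L := by
    exact_mod_cast le_idealDepth_of_fibre (A := A) J' (k := 2) (by exact_mod_cast hfib)
  obtain ⟨eK⟩ := exists_dualDual_equiv_ker J hdL f u v hf hfu huv hv hGU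
  let e := eX ≪≫ₗ eK
  haveI : Module.Finite L X := Module.Finite.equiv e.symm
  haveI : Module.Finite L Y := Module.Finite.equiv eY.symm
  let f' : X →ₗ[L] L ⊗[C] E0 := (LinearMap.ker (u.baseChange L)).subtype ∘ₗ e.toLinearMap
  let v' : L ⊗[C] E1 →ₗ[L] Y := eY.symm.toLinearMap ∘ₗ v.baseChange L
  have hf' : Function.Injective f' := (Submodule.injective_subtype _).comp e.injective
  have hfu' : Function.Exact f' (u.baseChange L) := fun x =>
    ⟨fun h => ⟨e.symm ⟨x, h⟩, congrArg Subtype.val (e.apply_symm_apply _)⟩,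
      fun ⟨y, hy⟩ => hy ▸ LinearMap.mem_ker.1 (e y).2⟩
  have huv' : Function.Exact (u.baseChange L) v' := fun x => by
    show eY.symm (v.baseChange L x) = 0 ↔ _
    rw [LinearEquiv.map_eq_zero_iff]
    exact lTensor_exact L huv hv x
  have hv' : Function.Surjective v' := eY.symm.surjective.comp (LinearMap.lTensor_surjective L hv)
  have hfree : ∀ P : PrimeSpectrum L, ¬ J' ≤ P.asIdeal →
      Module.Free (Localization.AtPrime P.asIdeal) (LocalizedModule P.asIdeal.primeCompl (L ⊗[C] G)) := fun P hP =>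
    H4Depth.free_localized_baseChange G P.asIdeal
      (hGU ⟨_, P.2.comap _⟩ fun h => hP (Ideal.map_le_iff_le_comap.2 h))
  have hflU : ∀ P : PrimeSpectrum L, ¬ J' ≤ P.asIdeal → FlatCA.FlatAt A P.asIdeal Y := fun P hP => by
    haveI := hfree P hP
    haveI : Module.Free (Localization.AtPrime P.asIdeal) (LocalizedModule P.asIdeal.primeCompl Y) :=
      Module.Free.of_equiv (IsLocalizedModule.mapEquiv P.asIdeal.primeCompl
        (LocalizedModule.mkLinearMap P.asIdeal.primeCompl (L ⊗[C] G))
        (LocalizedModule.mkLinearMap P.asIdeal.primeCompl Y) (Localization.AtPrime P.asIdeal) eY.symm)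
    haveI : Module.Flat L (Localization.AtPrime P.asIdeal) := IsLocalization.flat _ P.asIdeal.primeCompl
    haveI : Module.Flat A (Localization.AtPrime P.asIdeal) := Module.Flat.trans A L _
    exact Module.Flat.trans A (Localization.AtPrime P.asIdeal) _
  obtain ⟨hD, -, hFl⟩ := S18708.result A L J' X (L ⊗[C] E0) (L ⊗[C] E1) Y f' (u.baseChange L) v'
    hf' hfu' huv' hv' hflU (H4Depth.two_le_idealDepth_quot_of_projective J' _ _ hfib)
    (le_trans one_le_two (H4Depth.two_le_idealDepth_quot_of_projective J' _ _ hfib))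
  have hfreeFib : ∀ P : PrimeSpectrum (L ⧸ EGA4.mB A L), ¬ J'.map (Ideal.Quotient.mk _) ≤ P.asIdeal →
      Module.Free (Localization.AtPrime P.asIdeal) (LocalizedModule P.asIdeal.primeCompl (EGA4.FibMod A L X)) :=
    fun P hP => by
      have hQ : ¬ J' ≤ P.asIdeal.comap (algebraMap L (L ⧸ EGA4.mB A L)) := fun h => hP (Ideal.map_le_iff_le_comap.2 h)
      haveI := H4Depth.free_localized_baseChange (B := L) (B' := L ⧸ EGA4.mB A L) X P.asIdeal
        (H4Depth.free_localized_kernel f' (u.baseChange L) (v.baseChange L) hf' hfu' (lTensor_exact L huv hv)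
          (LinearMap.lTensor_surjective L hv) _ (hfree ⟨_, P.2.comap _⟩ hQ))
      exact Module.Free.of_equiv (IsLocalizedModule.mapEquiv P.asIdeal.primeCompl
        (LocalizedModule.mkLinearMap P.asIdeal.primeCompl ((L ⧸ EGA4.mB A L) ⊗[L] X))
        (LocalizedModule.mkLinearMap P.asIdeal.primeCompl (EGA4.FibMod A L X)) (Localization.AtPrime P.asIdeal)
        ((TensorProduct.quotTensorEquivQuotSMul X (EGA4.mB A L)).extendScalarsOfSurjective Ideal.Quotient.mk_surjective))
  have key : LocCoh.HasSk 2 (L ⧸ EGA4.mB A L) (EGA4.FibMod A L X) ↔ 2 ≤ LocCoh.idealDepth J' (EGA4.FibMod A L X) := by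
    haveI : Module.Finite (L ⧸ EGA4.mB A L) (EGA4.FibMod A L X) := Module.Finite.of_restrictScalars_finite L _ _
    rw [hasSk_two_iff (J'.map (Ideal.Quotient.mk _)) hS2 hdim hfreeFib
      (fun P hP => not_le_of_minimalPrimes f' hf' J' hS2 hdim P hP)]
    rw [← Ideal.Quotient.algebraMap_eq, H8Props.FlatDepth.idealDepth_map_of_surjective Ideal.Quotient.mk_surjective]
  exact ⟨fun h => hD.1 (key.1 h.2), fun h => ⟨hFl h, key.2 (hD.2 h)⟩⟩

end Groth.Agent.H3CAlg.QGorS2
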