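import Groth.Agent.H06FlatVal.Criterion
import Mathlib.RingTheory.DiscreteValuationRing.Basic
import Mathlib.RingTheory.Ideal.GoingUp

/-!
# Flatness modulo powers of a uniformizer from flatness at the points over a given point
-/

set_option autoImplicit false
set_option linter.style.haveILetI false

universe u

open TensorProduct IsLocalRing

attribute [local instance] Algebra.TensorProduct.rightAlgebra

namespace Groth.Agent.H3CAlg.QGorS2

/-- A module over `D / 𝔪^k` is flat if its torsion is divisible. -/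
theorem flat_quotient_of_torsion {D : Type u} [CommRing D] [IsDomain D] [IsDiscreteValuationRing D] (ϖ : D)
    (hϖ : Irreducible ϖ) (k : ℕ) (P : Type u) [AddCommGroup P] [Module D P] [Module (D ⧸ maximalIdeal D ^ k) P]
    [IsScalarTower D (D ⧸ maximalIdeal D ^ k) P]
    (h : ∀ j, j ≤ k → ∀ x : P, ϖ ^ j • x = 0 → ∃ w : P, x = ϖ ^ (k - j) • w) :
    Module.Flat (D ⧸ maximalIdeal D ^ k) P := by
  let A := D ⧸ maximalIdeal D ^ k
  have hzero : Ideal.Quotient.mk (maximalIdeal D ^ k) (ϖ ^ k) = 0 :=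
    Ideal.Quotient.eq_zero_iff_mem.2 (Ideal.pow_mem_pow (hϖ.maximalIdeal_eq.symm.le (Ideal.mem_span_singleton_self ϖ)) k)
  rw [Module.Flat.iff_rTensor_injective']
  intro 𝔞
  obtain ⟨j, hjk, h𝔞⟩ : ∃ j, j ≤ k ∧ 𝔞 = Ideal.span {Ideal.Quotient.mk (maximalIdeal D ^ k) (ϖ ^ j)} := by
    have hmap := Ideal.map_comap_of_surjective (Ideal.Quotient.mk (maximalIdeal D ^ k)) Ideal.Quotient.mk_surjective 𝔞
    by_cases hb : 𝔞.comap (Ideal.Quotient.mk (maximalIdeal D ^ k)) = ⊥
    · refine ⟨k, le_rfl, ?_⟩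
      rw [← hmap, hb, Ideal.map_bot, hzero, Ideal.span_singleton_eq_bot.2 rfl]
    obtain ⟨j, hj⟩ := IsDiscreteValuationRing.ideal_eq_span_pow_irreducible hb hϖ
    rcases le_or_gt j k with hjk | hjk
    · exact ⟨j, hjk, by rw [← hmap, hj, Ideal.map_span, Set.image_singleton]⟩
    · refine ⟨k, le_rfl, ?_⟩
      rw [← hmap, hj, Ideal.map_span, Set.image_singleton, show j = k + (j - k) by omega, pow_add, map_mul, hzero,
        zero_mul]
  rw [injective_iff_map_eq_zero]
  intro z hz
  let b : 𝔞 := ⟨Ideal.Quotient.mk _ (ϖ ^ j), h𝔞.ge (Ideal.mem_span_singleton_self _)⟩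
  have hrep : ∃ x : P, z = b ⊗ₜ[A] x := by
    clear hz
    induction z using TensorProduct.induction_on with
    | zero => exact ⟨0, (tmul_zero _ _).symm⟩
    | add a c ha hc =>
      obtain ⟨x, rfl⟩ := ha
      obtain ⟨y, rfl⟩ := hc
      exact ⟨x + y, (tmul_add _ _ _).symm⟩
    | tmul a x =>
      obtain ⟨r, hr⟩ := Ideal.mem_span_singleton'.1 (h𝔞.le a.2)
      refine ⟨r • x, ?_⟩
      rw [← TensorProduct.smul_tmul]
      congr 1
      exact Subtype.ext hr.symm
  obtain ⟨x, rfl⟩ := hrep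
  have hx : ϖ ^ j • x = 0 := by
    have h0 := congrArg (TensorProduct.lid A P) hz
    rw [LinearMap.rTensor_tmul, TensorProduct.lid_tmul, map_zero] at h0
    rwa [← algebraMap_smul A (ϖ ^ j) x]
  obtain ⟨w, rfl⟩ := h j hjk x hx
  rw [← algebraMap_smul A (ϖ ^ (k - j)) w, ← TensorProduct.smul_tmul]
  convert TensorProduct.zero_tmul (R := A) (↥𝔞) w
  refine Subtype.ext ?_
  show Ideal.Quotient.mk _ (ϖ ^ (k - j)) * Ideal.Quotient.mk _ (ϖ ^ j) = 0
  rw [← map_mul, ← pow_add, Nat.sub_add_cancel hjk, hzero]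

variable {R C D : Type u} [CommRing R] [CommRing C] [CommRing D] [IsLocalRing D] [Algebra R C] [Algebra R D]

/-- Over a prime, an ideal containing the closed fibre of an algebraic residue extension has a point. -/
theorem exists_prime_over (halg : ∀ d : D, ∃ p : Polynomial R, p.Monic ∧ p.eval₂ (algebraMap R D) d ∈ maximalIdeal D)
    (I : Ideal (C ⊗[R] D)) (hI : (maximalIdeal D).map (algebraMap D (C ⊗[R] D)) ≤ I) (n : Ideal C) [n.IsPrime]
    (h : I.comap (algebraMap C (C ⊗[R] D)) ≤ n) :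
    ∃ Q : Ideal (C ⊗[R] D), Q.IsPrime ∧ I ≤ Q ∧ Q.comap (algebraMap C (C ⊗[R] D)) = n := by
  let T := (C ⊗[R] D) ⧸ I
  haveI : Algebra.IsIntegral C T := ⟨fun z => by
    obtain ⟨z, rfl⟩ := Ideal.Quotient.mk_surjective z
    induction z using TensorProduct.induction_on with
    | zero => rw [map_zero]; exact isIntegral_zero
    | add a b ha hb => rw [map_add]; exact ha.add hb
    | tmul c d =>
      have hcd : c ⊗ₜ[R] d = algebraMap C (C ⊗[R] D) c * ((1 : C) ⊗ₜ[R] d) := by
        show _ = (c ⊗ₜ[R] (1 : D)) * _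
        rw [Algebra.TensorProduct.tmul_mul_tmul, mul_one, one_mul]
      rw [hcd, map_mul]
      refine (isIntegral_algebraMap (x := c)).mul ?_
      obtain ⟨p, hp, hpd⟩ := halg d
      refine IsIntegral.tower_top (R := R) ⟨p, hp, ?_⟩
      have h0 : Ideal.Quotient.mk I ((Algebra.TensorProduct.includeRight : D →ₐ[R] C ⊗[R] D) (p.eval₂ (algebraMap R D) d)) = 0 :=
        Ideal.Quotient.eq_zero_iff_mem.2 (hI (Ideal.mem_map_of_mem _ hpd))
      rw [← Polynomial.aeval_def, ← Polynomial.aeval_algHom_apply] at h0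
      show Polynomial.aeval (Ideal.Quotient.mkₐ R I ((1 : C) ⊗ₜ[R] d)) p = 0
      rw [Polynomial.aeval_algHom_apply]
      exact h0⟩
  obtain ⟨Q, -, hQ, hQn⟩ := Ideal.exists_ideal_over_prime_of_isIntegral n (⊥ : Ideal T) (by
    refine le_trans (fun c hc => ?_) h
    exact (Ideal.Quotient.eq_zero_iff_mem (I := I)).1 hc)
  exact ⟨Q.comap (Ideal.Quotient.mk I), hQ.comap _, fun x hx => by
    rw [Ideal.mem_comap, Ideal.Quotient.eq_zero_iff_mem.2 hx]; exact zero_mem _, hQn⟩

/-- Flatness at all points over `n` and the closed point gives flatness modulo powers of the uniformizer. -/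
theorem flat_quotient_localized [IsDomain D] [IsDiscreteValuationRing D]
    (halg : ∀ d : D, ∃ p : Polynomial R, p.Monic ∧ p.eval₂ (algebraMap R D) d ∈ maximalIdeal D)
    [SMulCommClass C D (C ⊗[R] D)] (n : Ideal C) [n.IsPrime]
    (G : Type u) [AddCommGroup G] [Module C G] [Module R G] [IsScalarTower R C G]
    (h : ∀ q : Ideal (C ⊗[R] D), [q.IsPrime] → q.comap (algebraMap C (C ⊗[R] D)) = n →
      (maximalIdeal D).map (algebraMap D (C ⊗[R] D)) ≤ q →
      Module.Flat D (LocalizedModule q.primeCompl ((C ⊗[R] D) ⊗[C] G))) (k : ℕ) :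
    Module.Flat (D ⧸ maximalIdeal D ^ k) ((D ⧸ maximalIdeal D ^ k) ⊗[R] LocalizedModule n.primeCompl G) := by
  obtain ⟨ϖ, hϖ⟩ := IsDiscreteValuationRing.exists_irreducible D
  let B := C ⊗[R] D
  let M := LocalizedModule n.primeCompl G
  let π : B := algebraMap D B ϖ
  let mk0 : G →ₗ[C] M := LocalizedModule.mkLinearMap n.primeCompl G
  let g : B ⊗[C] G →ₗ[B] B ⊗[C] M := mk0.baseChange B
  haveI hg : IsLocalizedModule n.primeCompl (g.restrictScalars C) := by
    have h1 : (TensorProduct.comm C M B).toLinearMap ∘ₗ AlgebraTensorModule.rTensor C B mk0 ∘ₗ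
        (TensorProduct.comm C B G).toLinearMap = g.restrictScalars C :=
      TensorProduct.ext' fun b x => rfl
    rw [← h1]
    haveI : IsLocalizedModule n.primeCompl (AlgebraTensorModule.rTensor C B mk0 ∘ₗ (TensorProduct.comm C B G).toLinearMap) :=
      IsLocalizedModule.of_linearEquiv_right n.primeCompl _ (TensorProduct.comm C B G)
    exact IsLocalizedModule.of_linearEquiv n.primeCompl _ (TensorProduct.comm C M B)
  have hB : ∀ j, j ≤ k → ∀ x v : B ⊗[C] M, π ^ j • x = π ^ k • v → ∃ w, x = π ^ (k - j) • w := by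
    intro j hj x v hxv
    obtain ⟨⟨y, s⟩, hy⟩ := IsLocalizedModule.surj n.primeCompl (g.restrictScalars C) x
    obtain ⟨⟨w, s'⟩, hw⟩ := IsLocalizedModule.surj n.primeCompl (g.restrictScalars C) v
    simp only [Submonoid.smul_def, LinearMap.restrictScalars_apply] at hy hw
    have h0 : g.restrictScalars C (π ^ j • ((s' : C) • y) - π ^ k • ((s : C) • w)) = 0 := by
      simp only [LinearMap.restrictScalars_apply, map_sub, map_smul, LinearMap.map_smul_of_tower, ← hy, ← hw]
      rw [smul_comm (π ^ j), smul_comm (π ^ j), smul_comm (π ^ k), smul_comm (π ^ k), hxv, smul_comm (s' : C), sub_self]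
    obtain ⟨t, ht⟩ := (IsLocalizedModule.eq_zero_iff n.primeCompl _).1 h0
    rw [Submonoid.smul_def, smul_sub, sub_eq_zero] at ht
    let z : B ⊗[C] G := (t : C) • (s' : C) • y - π ^ (k - j) • ((t : C) • (s : C) • w)
    have hz : π ^ j • z = 0 := by
      rw [smul_sub, smul_smul (π ^ j) (π ^ (k - j)), ← pow_add, Nat.add_sub_cancel' hj, smul_comm (π ^ j), ht, smul_comm (π ^ k) (t : C),
        smul_comm (π ^ k) (s : C), sub_self]
    let I : Ideal B := (Submodule.span B {z}).annihilator ⊔ (maximalIdeal D).map (algebraMap D B)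
    have hI : ¬ I.comap (algebraMap C B) ≤ n := fun hle => by
      obtain ⟨Q, hQ, hIQ, hQn⟩ := exists_prime_over halg I le_sup_right n hle
      haveI := h Q hQn (le_sup_right.trans hIQ)
      have hmk : LocalizedModule.mkLinearMap Q.primeCompl (B ⊗[C] G) z = 0 := by
        have hreg : IsSMulRegular (LocalizedModule Q.primeCompl (B ⊗[C] G)) (ϖ ^ j) :=
          Module.Flat.isSMulRegular_of_nonZeroDivisors (R := D) (M := LocalizedModule Q.primeCompl (B ⊗[C] G))
            (mem_nonZeroDivisors_of_ne_zero (pow_ne_zero j hϖ.ne_zero))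
        refine hreg ?_
        simp only [smul_zero]
        rw [← algebraMap_smul B (ϖ ^ j), ← LinearMap.map_smul_of_tower, map_pow, hz, map_zero]
      obtain ⟨t', ht'⟩ := (IsLocalizedModule.eq_zero_iff Q.primeCompl _).1 hmk
      exact t'.2 (hIQ (Ideal.mem_sup_left ((Submodule.mem_annihilator_span_singleton z (t' : B)).2 ht')))
    obtain ⟨c, hc, hcn⟩ := Set.not_subset.1 hI
    obtain ⟨a, ha, b, hb, hab⟩ := Submodule.mem_sup.1 (Ideal.mem_comap.1 hc)
    rw [hϖ.maximalIdeal_eq, Ideal.map_span, Set.image_singleton] at hb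
    obtain ⟨b', rfl⟩ := Ideal.mem_span_singleton'.1 hb
    have hcz : ∀ i : ℕ, algebraMap C B c ^ i • z = (b' * π) ^ i • z := fun i => by
      induction i with
      | zero => simp
      | succ i ih =>
        rw [pow_succ', mul_smul, ih, smul_comm, ← hab, add_smul,
          (Submodule.mem_annihilator_span_singleton z a).1 ha, zero_add, smul_smul, ← pow_succ]
    have hu : c ^ k * ((t : C) * ((s' : C) * (s : C))) ∈ n.primeCompl :=
      mul_mem (pow_mem hcn k) (mul_mem t.2 (mul_mem s'.2 s.2))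
    have hinj : Function.Bijective (fun e : B ⊗[C] M => (c ^ k * ((t : C) * ((s' : C) * (s : C)))) • e) :=
      (Module.End.isUnit_iff _).1 (IsLocalizedModule.map_units (g.restrictScalars C) ⟨_, hu⟩)
    have hkey : (c ^ k * ((t : C) * ((s' : C) * (s : C)))) • x =
        π ^ (k - j) • g ((c ^ k) • ((t : C) • (s : C) • w) + π ^ j • (b' ^ k • z)) := by
      have h1 : (c ^ k) • z = π ^ k • (b' ^ k • z) := by
        rw [← algebraMap_smul B (c ^ k), map_pow, hcz, mul_pow, mul_comm, mul_smul]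
      have h2 : c ^ k • ((t : C) • (s' : C) • y) =
          π ^ (k - j) • (c ^ k • ((t : C) • (s : C) • w) + π ^ j • (b' ^ k • z)) := by
        rw [show (t : C) • (s' : C) • y = z + π ^ (k - j) • ((t : C) • (s : C) • w) by simp [z], smul_add, smul_add,
          h1, smul_comm (c ^ k), smul_smul (π ^ (k - j)) (π ^ j), ← pow_add, Nat.sub_add_cancel hj, add_comm]
      rw [mul_smul, mul_smul, mul_smul, hy, ← LinearMap.map_smul_of_tower, ← LinearMap.map_smul_of_tower,
        ← LinearMap.map_smul_of_tower, h2, map_smul]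
    obtain ⟨e, he⟩ := hinj.2 (g ((c ^ k) • ((t : C) • (s : C) • w) + π ^ j • (b' ^ k • z)))
    refine ⟨e, hinj.1 ?_⟩
    show _ • x = _ • (π ^ (k - j) • e)
    rw [hkey, ← he, smul_comm]
  obtain ⟨E⟩ := H06FlatVal.nonempty_baseChange_equiv R D C M
  refine flat_quotient_of_torsion ϖ hϖ k _ fun j hj x hx => ?_
  let T := (D ⧸ maximalIdeal D ^ k) ⊗[R] M
  let P0 : Submodule D (D ⊗[R] M) := (maximalIdeal D ^ k) • ⊤
  let E2 : ((D ⊗[R] M) ⧸ P0) ≃ₗ[D] T :=
    (TensorProduct.quotTensorEquivQuotSMul (D ⊗[R] M) (maximalIdeal D ^ k)).symm ≪≫ₗ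
      (AlgebraTensorModule.cancelBaseChange R D D (D ⧸ maximalIdeal D ^ k) M)
  obtain ⟨x, rfl⟩ := E2.surjective x
  obtain ⟨x, rfl⟩ := Submodule.Quotient.mk_surjective _ x
  rw [← LinearEquiv.map_smul, LinearEquiv.map_eq_zero_iff, ← Submodule.Quotient.mk_smul,
    Submodule.Quotient.mk_eq_zero] at hx
  simp only [P0] at hx
  rw [hϖ.maximalIdeal_eq, Ideal.span_singleton_pow,
    Submodule.ideal_span_singleton_smul] at hx
  obtain ⟨v, -, hv : ϖ ^ k • v = ϖ ^ j • x⟩ := hx
  obtain ⟨w, hw⟩ := hB j hj (E.symm x) (E.symm v) (by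
    rw [show π = algebraMap D B ϖ from rfl, ← map_pow, ← map_pow, algebraMap_smul, algebraMap_smul, ← map_smul,
      ← map_smul, hv])
  refine ⟨E2 (Submodule.Quotient.mk (E w)), ?_⟩
  rw [← map_smul, ← Submodule.Quotient.mk_smul, ← map_smul, ← algebraMap_smul B (ϖ ^ (k - j)) w, map_pow, ← hw,
    E.apply_symm_apply]

end Groth.Agent.H3CAlg.QGorS2
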