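import Groth.Agent.S18699
import Groth.Agent.H4Depth.LocDepth
import Groth.Agent.H4Depth.SkFree
import Groth.Agent.H4Depth.DualBaseChange

/-!
# `(S₂)` for a module which is free off a closed set of codimension two
-/

set_option autoImplicit false

universe u

open IsLocalRing

namespace Groth.Agent.H3CAlg.QGorS2

variable {R : Type u} [CommRing R] [IsNoetherianRing R]

/-- A prime minimal in the support at which the module is free is a minimal prime of the ring. -/
theorem mem_minimalPrimes_of_free {M : Type u} [AddCommGroup M] [Module R M] [Module.Finite R M] {P : Ideal R}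
    [P.IsPrime] (hP : P ∈ (Module.annihilator R M).minimalPrimes)
    (hfree : Module.Free (Localization.AtPrime P) (LocalizedModule P.primeCompl M)) :
    P ∈ minimalPrimes R := by
  refine ⟨⟨‹_›, bot_le⟩, fun Q hQ hQP => hP.2 ⟨hQ.1, fun a ha => ?_⟩ hQP⟩
  have hne : Nontrivial (LocalizedModule P.primeCompl M) :=
    Module.mem_support_iff.1 ((Module.mem_support_iff_of_finite (p := ⟨P, ‹_›⟩)).2 hP.1.2)
  have h0 : algebraMap R (Localization.AtPrime P) a = 0 := by
    let b := Module.Free.chooseBasis (Localization.AtPrime P) (LocalizedModule P.primeCompl M)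
    obtain ⟨i⟩ := b.index_nonempty
    have hk : ∀ x : LocalizedModule P.primeCompl M, a • x = 0 := fun x => by
      induction x using LocalizedModule.induction_on with
      | _ m t => rw [LocalizedModule.smul'_mk, Module.mem_annihilator.1 ha, LocalizedModule.zero_mk]
    have h := congrArg b.repr (hk (b i))
    rw [← algebraMap_smul (Localization.AtPrime P) a (b i), map_smul, b.repr_self, map_zero,
      Finsupp.smul_single, smul_eq_mul, mul_one] at h
    exact Finsupp.single_eq_zero.1 h
  obtain ⟨t, ht⟩ := (IsLocalization.map_eq_zero_iff P.primeCompl _ a).1 h0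
  refine (hQ.1.mem_or_mem (?_ : (t : R) * a ∈ Q)).resolve_left fun h => t.2 (hQP h)
  rw [ht]
  exact zero_mem _

/-- The support of a finite module free off `V(J)` with no component inside `V(J)` has codimension two there. -/
theorem two_le_supportDim {M : Type u} [AddCommGroup M] [Module R M] [Module.Finite R M] (J : Ideal R)
    (hR : LocCoh.HasSk 2 R R)
    (hdim : ∀ P : PrimeSpectrum R, J ≤ P.asIdeal → (2 : WithBot ℕ∞) ≤ ringKrullDim (Localization.AtPrime P.asIdeal))
    (hfree : ∀ P : PrimeSpectrum R, ¬ J ≤ P.asIdeal →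
      Module.Free (Localization.AtPrime P.asIdeal) (LocalizedModule P.asIdeal.primeCompl M))
    (hmin : ∀ P : PrimeSpectrum R, P.asIdeal ∈ (Module.annihilator R M).minimalPrimes → ¬ J ≤ P.asIdeal)
    (P : PrimeSpectrum R) (hJP : J ≤ P.asIdeal) (hP : P ∈ Module.support R M) :
    (2 : WithBot ℕ∞) ≤ Module.supportDim (Localization.AtPrime P.asIdeal) (LocalizedModule P.asIdeal.primeCompl M) := by
  obtain ⟨Q, hQ, hQP⟩ := Ideal.exists_minimalPrimes_le ((Module.mem_support_iff_of_finite).1 hP)
  haveI := hQ.1.1
  have hQR := mem_minimalPrimes_of_free hQ (hfree ⟨Q, hQ.1.1⟩ (hmin ⟨Q, hQ.1.1⟩ hQ))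
  set L := Localization.AtPrime P.asIdeal
  set N := LocalizedModule P.asIdeal.primeCompl M
  have hdisj : Disjoint (P.asIdeal.primeCompl : Set R) (Q : Set R) :=
    Set.disjoint_left.2 fun x hx hxQ => hx (hQP hxQ)
  let Q' : PrimeSpectrum L := ⟨Q.map (algebraMap R L), IsLocalization.isPrime_of_isPrime_disjoint P.asIdeal.primeCompl L Q hQ.1.1 hdisj⟩
  have hcomap : Q'.asIdeal.comap (algebraMap R L) = Q :=
    IsLocalization.comap_map_of_isPrime_disjoint P.asIdeal.primeCompl L hQ.1.1 hdisj
  obtain ⟨e1⟩ := H4Depth.exists_localizedModule_self_equiv (R := R) P.asIdeal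
  have hd : (2 : WithBot ℕ∞) ≤ ((LocCoh.depth L L : ℕ∞) : WithBot ℕ∞) := by
    have h := hR P.asIdeal
    rw [Module.supportDim_eq_of_equiv e1, Module.supportDim_self_eq_ringKrullDim, H4Depth.depth_congr e1] at h
    exact (le_min le_rfl (hdim P hJP)).trans h
  have hass : Q'.asIdeal ∈ associatedPrimes L L := by
    refine Module.associatedPrimes.minimalPrimes_annihilator_subset_associatedPrimes L L ?_
    rw [Module.annihilator_eq_bot.mpr inferInstance]
    refine ⟨⟨Q'.2, bot_le⟩, fun T hT hTQ => ?_⟩
    haveI := hT.1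
    have hle : T.comap (algebraMap R L) ≤ Q := hcomap ▸ Ideal.comap_mono hTQ
    have := hQR.2 ⟨inferInstance, bot_le⟩ hle
    calc Q'.asIdeal = Q.map (algebraMap R L) := rfl
      _ ≤ (T.comap (algebraMap R L)).map (algebraMap R L) := Ideal.map_mono this
      _ ≤ T := Ideal.map_comap_le
  refine hd.trans ((H4Depth.depth_le_ringKrullDim_quotient_of_mem_associatedPrimes hass).trans ?_)
  rw [Module.supportDim_eq_ringKrullDim_quotient_annihilator]
  refine ringKrullDim_le_of_surjective (Ideal.Quotient.factor ?_) (Ideal.Quotient.factor_surjective _)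
  refine (Module.mem_support_iff_of_finite (p := Q')).1 ?_
  refine (H4Depth.mem_support_localizedModule_iff P.asIdeal.primeCompl _ (LocalizedModule.mkLinearMap _ M) Q').mpr ?_
  refine (Module.mem_support_iff_of_finite).2 ?_
  show Module.annihilator R M ≤ Q'.asIdeal.comap (algebraMap R L)
  rw [hcomap]
  exact hQ.1.2

/-- For a module free off `V(J)`, the condition `(S₂)` is depth two along `J`. -/
theorem hasSk_two_iff {M : Type u} [AddCommGroup M] [Module R M] [Module.Finite R M] (J : Ideal R)
    (hR : LocCoh.HasSk 2 R R)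
    (hdim : ∀ P : PrimeSpectrum R, J ≤ P.asIdeal → (2 : WithBot ℕ∞) ≤ ringKrullDim (Localization.AtPrime P.asIdeal))
    (hfree : ∀ P : PrimeSpectrum R, ¬ J ≤ P.asIdeal →
      Module.Free (Localization.AtPrime P.asIdeal) (LocalizedModule P.asIdeal.primeCompl M))
    (hmin : ∀ P : PrimeSpectrum R, P.asIdeal ∈ (Module.annihilator R M).minimalPrimes → ¬ J ≤ P.asIdeal) :
    LocCoh.HasSk 2 R M ↔ 2 ≤ LocCoh.idealDepth J M := by
  refine ⟨fun h => ?_, fun h P hP => ?_⟩
  · exact_mod_cast S18699.result 2 R M J h fun P hJP hP => by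
      exact_mod_cast two_le_supportDim J hR hdim hfree hmin P hJP hP
  by_cases hJP : J ≤ P
  · refine (min_le_left _ _).trans (WithBot.coe_le_coe.mpr ?_)
    exact_mod_cast h.trans (H4Depth.idealDepth_le_depth_localization P hJP)
  rcases subsingleton_or_nontrivial (LocalizedModule P.primeCompl M) with hs | hs
  · rw [LocCoh.depth, H4Depth.idealDepth_eq_top (Subsingleton.elim _ _)]
    exact le_top
  haveI := hfree ⟨P, hP⟩ hJP
  haveI : Module.Finite (Localization.AtPrime P) (LocalizedModule P.primeCompl M) :=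
    Module.Finite.of_isLocalizedModule P.primeCompl (LocalizedModule.mkLinearMap P.primeCompl M)
  let b := Module.finBasis (Localization.AtPrime P) (LocalizedModule P.primeCompl M)
  obtain ⟨e1⟩ := H4Depth.exists_localizedModule_self_equiv (R := R) P
  rw [H4Depth.depth_congr b.equivFun]
  refine le_trans ?_ (WithBot.coe_le_coe.mpr (H1CAlg.idealDepth_le_idealDepth_pi _ _))
  refine le_trans ?_ ((hR P).trans (WithBot.coe_le_coe.mpr (H4Depth.depth_congr e1).le))
  refine min_le_min le_rfl ?_
  rw [Module.supportDim_eq_of_equiv e1, Module.supportDim_self_eq_ringKrullDim]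
  exact Module.supportDim_le_ringKrullDim _ _

end Groth.Agent.H3CAlg.QGorS2
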