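import Groth.Agent.H4Depth.FlatProjective
import Groth.Agent.H4Depth.FibLocal
import Groth.Agent.S18709

/-!
# Lifting depth from the closed fibre, and kernels after base change
-/

set_option autoImplicit false

universe u

open TensorProduct IsLocalRing

namespace Groth.Agent.H3CAlg.QGorS2

/-- Depth lifts from the closed fibre of a flat local algebra. -/
theorem le_idealDepth_of_fibre {A L : Type u} [CommRing A] [CommRing L] [IsNoetherianRing A] [IsNoetherianRing L]
    [IsLocalRing A] [IsLocalRing L] [Algebra A L] [IsLocalHom (algebraMap A L)] [Module.Flat A L] (J : Ideal L)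
    {k : ℕ} (h : (k : ℕ∞) ≤ LocCoh.idealDepth J (L ⧸ EGA4.mB A L)) : (k : ℕ∞) ≤ LocCoh.idealDepth J L := by
  by_cases hJ : J • (⊤ : Submodule L (L ⧸ EGA4.mB A L)) = ⊤
  · have hJ1 : J = ⊤ := by
      by_contra hne
      exact H4Depth.maximalIdeal_smul_top_ne_top (R := L) (M := L ⧸ EGA4.mB A L)
        (top_le_iff.1 (hJ.symm.trans_le (Submodule.smul_mono_left (le_maximalIdeal hne))))
    exact le_of_le_of_eq le_top (H4Depth.idealDepth_eq_top (by rw [hJ1, Submodule.top_smul])).symm
  obtain ⟨xs, hlen, hmem, hreg⟩ := H4Depth.exists_isWeaklyRegular_of_le_idealDepth hJ h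
  let e : (L ⧸ EGA4.mB A L) ≃ₗ[L] L ⊗[A] (A ⧸ maximalIdeal A) :=
    Submodule.quotEquivOfEq _ _ (by rw [Ideal.smul_eq_mul, Ideal.mul_top]) ≪≫ₗ
      H4Depth.quotMapTensorEquiv L (maximalIdeal A)
  have h2 := H4Depth.isWeaklyRegular_tensor A xs L ((e.isWeaklyRegular_congr xs).1 hreg)
  exact le_of_eq_of_le (by simp [hlen]) (H4Depth.length_le_idealDepth
    (((AlgebraTensorModule.rid A L L).isWeaklyRegular_congr xs).1 h2) hmem)

variable {C : Type u} [CommRing C] [IsNoetherianRing C] {F E0 E1 G : Type u}
  [AddCommGroup F] [Module C F] [AddCommGroup E0] [Module C E0] [Module.Finite C E0]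
  [AddCommGroup E1] [Module C E1] [Module.Projective C E1] [Module.Finite C E1] [Module.Projective C E0]
  [AddCommGroup G] [Module C G] [Module.Finite C G]

/-- Where the cokernel is free, the kernel is a direct summand up to a scalar. -/
theorem exists_splitting (f : F →ₗ[C] E0) (u : E0 →ₗ[C] E1) (v : E1 →ₗ[C] G)
    (hf : Function.Injective f) (hfu : Function.Exact f u) (huv : Function.Exact u v) (hv : Function.Surjective v)
    (p : Ideal C) [p.IsPrime] (hG : Module.Free (Localization.AtPrime p) (LocalizedModule p.primeCompl G)) :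
    ∃ (r : E0 →ₗ[C] F) (w : E1 →ₗ[C] E0) (s : p.primeCompl),
      f ∘ₗ r = (s : C) • LinearMap.id - w ∘ₗ u ∧ r ∘ₗ f = (s : C) • LinearMap.id := by
  obtain ⟨σ, s, hσ⟩ := S18709.exists_section p v hv
  have hτ : ∀ y, ((s : C) • (LinearMap.id : E1 →ₗ[C] E1) - σ ∘ₗ v) y ∈ LinearMap.range u := fun y => by
    refine (huv _).1 ?_
    rw [LinearMap.sub_apply, LinearMap.smul_apply, LinearMap.id_apply, map_sub, map_smul, sub_eq_zero]
    exact (LinearMap.congr_fun hσ (v y)).symm
  obtain ⟨w, hw⟩ := Module.projective_lifting_property u.rangeRestrict (LinearMap.codRestrict _ _ hτ)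
    u.surjective_rangeRestrict
  have huw : ∀ y, u (w y) = (s : C) • y - σ (v y) := fun y => congrArg Subtype.val (LinearMap.congr_fun hw y)
  have hker : ∀ x, ((s : C) • (LinearMap.id : E0 →ₗ[C] E0) - w ∘ₗ u) x ∈ LinearMap.range f := fun x => by
    refine (hfu _).1 ?_
    rw [LinearMap.sub_apply, LinearMap.smul_apply, LinearMap.id_apply, LinearMap.comp_apply, map_sub, map_smul,
      huw, huv.apply_apply_eq_zero, map_zero, sub_zero, sub_self]
  let e := LinearEquiv.ofInjective f hf
  let r : E0 →ₗ[C] F := e.symm.toLinearMap ∘ₗ LinearMap.codRestrict _ _ hker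
  have hfr : ∀ x, f (r x) = (s : C) • x - w (u x) := fun x => congrArg Subtype.val (e.apply_symm_apply _)
  refine ⟨r, w, s, LinearMap.ext fun x => hfr x, LinearMap.ext fun y => hf ?_⟩
  rw [LinearMap.comp_apply, hfr, hfu.apply_apply_eq_zero, map_zero, sub_zero, LinearMap.smul_apply,
    LinearMap.id_apply, map_smul]

variable {L : Type u} [CommRing L] [Algebra C L]

/-- The comparison of the pulled back module with the kernel of the pulled back map. -/
noncomputable def toKer (f : F →ₗ[C] E0) (u : E0 →ₗ[C] E1) (hfu : Function.Exact f u) :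
    L ⊗[C] F →ₗ[L] LinearMap.ker (u.baseChange L) :=
  LinearMap.codRestrict _ (f.baseChange L) fun y => by
    rw [LinearMap.mem_ker, ← LinearMap.comp_apply, ← LinearMap.baseChange_comp, hfu.linearMap_comp_eq_zero,
      LinearMap.baseChange_zero, LinearMap.zero_apply]

theorem exists_inverse_toKer (f : F →ₗ[C] E0) (u : E0 →ₗ[C] E1) (v : E1 →ₗ[C] G)
    (hf : Function.Injective f) (hfu : Function.Exact f u) (huv : Function.Exact u v) (hv : Function.Surjective v)
    (P : Ideal L) [P.IsPrime] (hG : Module.Free (Localization.AtPrime (P.comap (algebraMap C L)))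
      (LocalizedModule (P.comap (algebraMap C L)).primeCompl G)) :
    ∃ (g : LinearMap.ker (u.baseChange L) →ₗ[L] L ⊗[C] F) (s : P.primeCompl),
      g ∘ₗ toKer f u hfu = (s : L) • LinearMap.id ∧ toKer f u hfu ∘ₗ g = (s : L) • LinearMap.id := by
  obtain ⟨r, w, s, h1, h2⟩ := exists_splitting f u v hf hfu huv hv (P.comap (algebraMap C L)) hG
  refine ⟨r.baseChange L ∘ₗ (LinearMap.ker (u.baseChange L)).subtype, ⟨algebraMap C L s, s.2⟩, ?_, ?_⟩
  · refine LinearMap.ext fun y => ?_
    show r.baseChange L (f.baseChange L y) = algebraMap C L s • y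
    rw [← LinearMap.comp_apply, ← LinearMap.baseChange_comp, h2, LinearMap.baseChange_smul, LinearMap.baseChange_id,
      LinearMap.smul_apply, LinearMap.id_apply, algebraMap_smul]
  · refine LinearMap.ext fun x => Subtype.ext ?_
    show f.baseChange L (r.baseChange L x.1) = algebraMap C L s • x.1
    rw [← LinearMap.comp_apply, ← LinearMap.baseChange_comp, h1, LinearMap.baseChange_sub, LinearMap.sub_apply,
      LinearMap.baseChange_comp, LinearMap.comp_apply, LinearMap.mem_ker.1 x.2, map_zero, sub_zero,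
      LinearMap.baseChange_smul, LinearMap.baseChange_id, LinearMap.smul_apply, LinearMap.id_apply, algebraMap_smul]

end Groth.Agent.H3CAlg.QGorS2
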