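import Groth.Agent.H3CAlg.QGorS2.FreeHasSk
import Groth.Agent.H3CAlg.QGorS2.Lift

/-!
# Submodules of free modules have no fibre components of depth at least one
-/

set_option autoImplicit false

universe u

open TensorProduct IsLocalRing

namespace Groth.Agent.H3CAlg.QGorS2

variable {A L : Type u} [CommRing A] [CommRing L] [IsNoetherianRing A] [IsNoetherianRing L]
  [IsLocalRing A] [IsLocalRing L] [Algebra A L] [IsLocalHom (algebraMap A L)] [Module.Flat A L]

/-- An element regular at the fibre at `Q` is regular at `Q`. -/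
theorem isSMulRegular_localization {Q : Ideal L} [Q.IsPrime] (hIQ : EGA4.mB A L ≤ Q) {a : L}
    (h : ∀ x : L, a * x ∈ EGA4.mB A L → ∃ d, d ∉ Q ∧ d * x ∈ EGA4.mB A L) :
    IsSMulRegular (Localization.AtPrime Q) (algebraMap L (Localization.AtPrime Q) a) := by
  haveI : IsLocalHom (algebraMap A (Localization.AtPrime Q)) := ⟨fun b hb => by
    by_contra hnu
    refine (?_ : algebraMap A (Localization.AtPrime Q) b ∈ maximalIdeal (Localization.AtPrime Q)) hb
    rw [IsScalarTower.algebraMap_apply A L (Localization.AtPrime Q), IsLocalization.AtPrime.to_map_mem_maximal_iff _ Q]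
    exact hIQ (Ideal.mem_map_of_mem _ hnu)⟩
  haveI : Module.Flat L (Localization.AtPrime Q) := IsLocalization.flat _ Q.primeCompl
  haveI : Module.Flat A (Localization.AtPrime Q) := Module.Flat.trans A L _
  refine H8Props.FlatDepth.isSMulRegular_of_fibre (A := A) (isSMulRegular_iff_right_eq_zero_of_smul.2 fun z hz => ?_)
  obtain ⟨z, rfl⟩ := Ideal.Quotient.mk_surjective z
  obtain ⟨⟨x, t⟩, rfl⟩ := IsLocalization.mk'_surjective Q.primeCompl z
  have hmap : (maximalIdeal A).map (algebraMap A (Localization.AtPrime Q)) =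
      (EGA4.mB A L).map (algebraMap L (Localization.AtPrime Q)) := by
    rw [EGA4.mB, Ideal.map_map, ← IsScalarTower.algebraMap_eq]
  have hz' : algebraMap L (Localization.AtPrime Q) a * IsLocalization.mk' (Localization.AtPrime Q) x t ∈
      (maximalIdeal A).map (algebraMap A (Localization.AtPrime Q)) := Ideal.Quotient.eq_zero_iff_mem.1 hz
  rw [hmap, ← IsLocalization.mk'_one (M := Q.primeCompl) (Localization.AtPrime Q) a, ← IsLocalization.mk'_mul,
    one_mul, IsLocalization.mk'_mem_map_algebraMap_iff Q.primeCompl] at hz'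
  obtain ⟨c, hc, hcx⟩ := hz'
  obtain ⟨d, hd, hdx⟩ := h (c * x) (by rwa [← mul_left_comm] )
  rw [Ideal.Quotient.eq_zero_iff_mem, hmap, IsLocalization.mk'_mem_map_algebraMap_iff Q.primeCompl]
  exact ⟨d * c, mul_mem (show d ∈ Q.primeCompl from hd) hc, by rwa [mul_assoc]⟩

/-- Some element of an ideal with no minimal component at an associated prime is regular on a localization. -/
theorem exists_mem_regular {R : Type u} [CommRing R] [IsNoetherianRing R] (𝔞 P : Ideal R) [P.IsPrime]
    (hP : P ∉ associatedPrimes R R) (hmin : ∀ T : Ideal R, T.IsPrime → 𝔞 ≤ T → T ≤ P → T = P) :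
    ∃ a ∈ 𝔞, ∀ y : R, a * y = 0 → ∃ d, d ∉ P ∧ d * y = 0 := by
  classical
  let s := ((associatedPrimes.finite R R).subset (Set.sep_subset _ (fun T : Ideal R => T ≤ P))).toFinset
  have hs : ∀ T, T ∈ s ↔ T ∈ associatedPrimes R R ∧ T ≤ P := fun T => by simp [s]
  have hnot : ¬ ((𝔞 : Set R) ⊆ ⋃ i ∈ (↑s : Set (Ideal R)), (i : Set R)) := fun hsub => by
    obtain ⟨T, hT, h𝔞T⟩ := (Ideal.subset_union_prime (f := fun T : Ideal R => T) P P
      (fun i hi _ _ => ((hs i).1 hi).1.isPrime)).1 hsub
    exact hP (hmin T ((hs T).1 hT).1.isPrime h𝔞T ((hs T).1 hT).2 ▸ ((hs T).1 hT).1)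
  obtain ⟨a, ha, hna⟩ := Set.not_subset.1 hnot
  refine ⟨a, ha, fun y hy => ?_⟩
  by_contra hd
  push Not at hd
  let N := Submodule.span R {y}
  have hann : Module.annihilator R N ≤ P := fun d hd' => by
    by_contra hdP
    exact hd d hdP ((Submodule.mem_annihilator_span_singleton y d).1 hd')
  obtain ⟨T, hT, hTP⟩ := Ideal.exists_minimalPrimes_le hann
  have hTass : T ∈ associatedPrimes R R :=
    associatedPrimes.subset_of_injective (f := N.subtype) N.injective_subtype
      (Module.associatedPrimes.minimalPrimes_annihilator_subset_associatedPrimes R N hT)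
  exact hna (Set.mem_biUnion ((hs T).2 ⟨hTass, hTP⟩)
    (hT.1.2 ((Submodule.mem_annihilator_span_singleton y a).2 hy)))

/-- A submodule of a free module has no component of its closed fibre inside a set of depth one. -/
theorem not_le_of_minimalPrimes {X E : Type u} [AddCommGroup X] [Module L X] [Module.Finite L X]
    [AddCommGroup E] [Module L E] [Module.Finite L E] [Module.Projective L E] (f : X →ₗ[L] E)
    (hf : Function.Injective f) (J : Ideal L) (hS2 : LocCoh.HasSk 2 (L ⧸ EGA4.mB A L) (L ⧸ EGA4.mB A L))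
    (hdim : ∀ P : PrimeSpectrum (L ⧸ EGA4.mB A L), J.map (Ideal.Quotient.mk _) ≤ P.asIdeal →
      (2 : WithBot ℕ∞) ≤ ringKrullDim (Localization.AtPrime P.asIdeal))
    (P : PrimeSpectrum (L ⧸ EGA4.mB A L))
    (hP : P.asIdeal ∈ (Module.annihilator (L ⧸ EGA4.mB A L) (EGA4.FibMod A L X)).minimalPrimes) :
    ¬ J.map (Ideal.Quotient.mk _) ≤ P.asIdeal := by
  intro hJP
  obtain ⟨e1⟩ := H4Depth.exists_localizedModule_self_equiv (R := L ⧸ (EGA4.mB A L)) P.asIdeal
  have hPass : P.asIdeal ∉ associatedPrimes (L ⧸ (EGA4.mB A L)) (L ⧸ (EGA4.mB A L)) := fun hass => by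
    haveI : Nontrivial (LocalizedModule P.asIdeal.primeCompl (L ⧸ (EGA4.mB A L))) := e1.toEquiv.nontrivial
    have h0 := (H1CAlg.depth_localization_eq_zero_iff (M := L ⧸ (EGA4.mB A L)) P.asIdeal).2 hass
    have h := hS2 P.asIdeal
    rw [Module.supportDim_eq_of_equiv e1, Module.supportDim_self_eq_ringKrullDim, h0] at h
    exact absurd ((le_min le_rfl (hdim P hJP)).trans h) (by decide)
  let π : L →+* L ⧸ (EGA4.mB A L) := Ideal.Quotient.mk (EGA4.mB A L)
  let Q := P.asIdeal.comap π
  have hIQ : (EGA4.mB A L) ≤ Q := fun x hx => by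
    rw [Ideal.mem_comap, Ideal.Quotient.eq_zero_iff_mem.2 hx]
    exact zero_mem _
  have hAQ : Module.annihilator L X ≤ Q := fun a ha => hP.1.2 (Module.mem_annihilator.2 fun z => by
    obtain ⟨z, rfl⟩ := Submodule.Quotient.mk_surjective _ z
    show Ideal.Quotient.mk (EGA4.mB A L) a • (Submodule.Quotient.mk z : EGA4.FibMod A L X) = 0
    show (Submodule.Quotient.mk (a • z) : EGA4.FibMod A L X) = 0
    rw [Module.mem_annihilator.1 ha z, Submodule.Quotient.mk_zero])
  obtain ⟨b, hb, hreg⟩ := exists_mem_regular ((Module.annihilator L X).map π) P.asIdeal hPass fun T hT hAT hTP => by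
    refine le_antisymm hTP (hP.2 ⟨hT, fun c hc => ?_⟩ hTP)
    obtain ⟨c, rfl⟩ := Ideal.Quotient.mk_surjective c
    have hsupp : (⟨T.comap π, hT.comap π⟩ : PrimeSpectrum L) ∈ Module.support L (EGA4.FibMod A L X) := by
      show _ ∈ Module.support L (X ⧸ (EGA4.mB A L • (⊤ : Submodule L X)))
      rw [Module.support_quotient]
      refine ⟨Module.mem_support_iff_of_finite.2 fun a ha => hAT (Ideal.mem_map_of_mem _ ha), fun x hx => ?_⟩
      show π x ∈ T
      rw [Ideal.Quotient.eq_zero_iff_mem.2 hx]
      exact zero_mem _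
    exact (Module.mem_support_iff_of_finite.1 hsupp) (Module.mem_annihilator.2 fun z => by
      have := Module.mem_annihilator.1 hc z
      exact this)
  obtain ⟨a, ha, rfl⟩ := (Ideal.mem_map_iff_of_surjective _ Ideal.Quotient.mk_surjective).1 hb
  have hregQ : IsSMulRegular (Localization.AtPrime Q) (algebraMap L (Localization.AtPrime Q) a) :=
    isSMulRegular_localization hIQ fun x hx => by
      obtain ⟨d, hd, hdx⟩ := hreg (π x) (by rw [← map_mul]; exact Ideal.Quotient.eq_zero_iff_mem.2 hx)
      obtain ⟨d, rfl⟩ := Ideal.Quotient.mk_surjective d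
      exact ⟨d, hd, Ideal.Quotient.eq_zero_iff_mem.1 (by rw [map_mul]; exact hdx)⟩
  obtain ⟨x, hx⟩ := Module.mem_support_iff'.1 (Module.mem_support_iff_of_finite.2 hAQ :
    (⟨Q, inferInstance⟩ : PrimeSpectrum L) ∈ Module.support L X)
  haveI : Module.Projective (Localization.AtPrime Q) (LocalizedModule Q.primeCompl E) :=
    Module.projective_of_isLocalizedModule Q.primeCompl (LocalizedModule.mkLinearMap Q.primeCompl E)
  haveI : Module.Finite (Localization.AtPrime Q) (LocalizedModule Q.primeCompl E) :=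
    Module.Finite.of_isLocalizedModule Q.primeCompl (LocalizedModule.mkLinearMap Q.primeCompl E)
  haveI : Module.Free (Localization.AtPrime Q) (LocalizedModule Q.primeCompl E) := Module.free_of_flat_of_isLocalRing
  let bas := Module.Free.chooseBasis (Localization.AtPrime Q) (LocalizedModule Q.primeCompl E)
  have hz : LocalizedModule.mkLinearMap Q.primeCompl E (f x) = 0 := by
    refine bas.repr.injective (Finsupp.ext fun i => ?_)
    rw [map_zero, Finsupp.zero_apply]
    refine hregQ ?_
    simp only [smul_zero]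
    rw [← Finsupp.smul_apply, ← map_smul, algebraMap_smul, ← map_smul, ← map_smul, Module.mem_annihilator.1 ha x,
      map_zero, map_zero, map_zero, Finsupp.zero_apply]
  obtain ⟨c, hc⟩ := (IsLocalizedModule.eq_zero_iff Q.primeCompl _).1 hz
  exact hx c c.2 (hf (by rw [map_smul, map_zero]; exact hc))

end Groth.Agent.H3CAlg.QGorS2
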